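import Cfsg.Agent.H60.E83.Typ
import Cfsg.Agent.H908.E8L.BConjE8

/-!
# S5925, gluing: all triples which are not of type `y₂` are conjugate (helper60)

* `typA_ph` : `ph₂(Fr) ph₁(Fr)` has type `A₄A₄`;
* `glue_ph` : the action of `t` on `L^y` determines `t`;
* `conj_e8` : a triple with the relations, not conjugate into `(ph₂ Mo, ph₂ Fr, ·)`, is conjugate to `(x₀, y₀, t₀)`.
-/

set_option autoImplicit false
set_option maxRecDepth 100000

namespace Cfsg.Agent.H60.E83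

open Cfsg Cfsg.Lie
open Cfsg.Agent.ChevalleyStructure Cfsg.Agent.H288.E8L Cfsg.Agent.H238.E8
open Cfsg.Agent.H908.E8L (Fr Mo bconj_e8)
open Cfsg.Agent.H828.E83 (Rel)

/-- the abstract form for one triple -/
theorem conj_one {G : Type*} [Group G] {x0 y0 y2 t0 : G} (S : G → G → Prop)
    (hS : ∀ t t', S t t' → ∃ k : ℕ, t⁻¹ * t' = y0 ^ k) (h0 : Rel x0 y0 t0)
    (hU : ∀ t : G, Rel x0 y0 t → ∃ k : G, k * x0 = x0 * k ∧ k * y0 = y0 * k ∧ S (k * t * k⁻¹) t0)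
    {x y t : G} (h : Rel x y t) (hB : ∃ g : G, g * x * g⁻¹ = x0 ∧ (g * y * g⁻¹ = y2 ∨ g * y * g⁻¹ = y0))
    (hne : ∀ g : G, g * x * g⁻¹ = x0 → g * y * g⁻¹ = y2 → False) :
    ∃ g : G, g * x * g⁻¹ = x0 ∧ g * y * g⁻¹ = y0 ∧ g * t * g⁻¹ = t0 := by
  obtain ⟨g, hx, hy⟩ := hB
  rcases hy with hy | hy
  · exact (hne g hx hy).elim
  have h1 := rel_conj h g
  rw [hx, hy] at h1
  obtain ⟨k, hkx, hky, hk⟩ := hU _ h1
  have h1' := rel_conj h1 k
  rw [conj_fix hkx, conj_fix hky] at h1'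
  have h2 := glue_abs S hS h1' h0 hk
  refine ⟨k * g, ?_, ?_, ?_⟩
  · rw [conj_conj, hx, conj_fix hkx]
  · rw [conj_conj, hy, conj_fix hky]
  · rw [conj_conj, h2]

/-- `x₀` -/
noncomputable abbrev xh : G8 := ph2 (ZMod 3) Mo

/-- `y₀` -/
noncomputable abbrev yh : G8 := ph2 (ZMod 3) Fr * ph1 (ZMod 3) Fr

theorem typA_ph : TypA yh := by
  have h : yh = Cfsg.Agent.H934.E83.p1 (ZMod 3) Fr * Cfsg.Agent.H934.E83.p2 (ZMod 3) Fr := by
    rw [yh, Cfsg.Agent.H934.E83.ph1_eq, Cfsg.Agent.H934.E83.ph2_eq]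
    exact (Cfsg.Agent.H934.E83.comm_eq Fr Fr).symm
  rw [h]
  exact typA_y0

/-- `t`, `t'` with the relations and the same action on `L^y` are equal -/
theorem glue_ph {t t' : G8} (h : Rel xh yh t) (h' : Rel xh yh t') (hu : SameU yh t t') : t = t' :=
  glue typA_ph h h' hu

/-- **all triples which are not of type `y₂` are conjugate** -/
theorem conj_e8 {t0 : G8} (h0 : Rel xh yh t0)
    (hU : ∀ t : G8, Rel xh yh t → ∃ k : G8, k * xh = xh * k ∧ k * yh = yh * k ∧ SameU yh (k * t * k⁻¹) t0)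
    {x y t : G8} (h : Rel x y t)
    (hne : ∀ g : G8, g * x * g⁻¹ = xh → g * y * g⁻¹ = ph2 (ZMod 3) Fr → False) :
    ∃ g : G8, g * x * g⁻¹ = xh ∧ g * y * g⁻¹ = yh ∧ g * t * g⁻¹ = t0 :=
  conj_one (SameU yh) (pow_of_same typA_ph) h0 hU h (bconj_e8 x y h.x11 h.x1 h.y5 h.yx) hne

end Cfsg.Agent.H60.E83
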