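import Cfsg.Agent.H857.E8L.Rep
import Cfsg.Agent.H845.E8L.RegNeg
import Cfsg.Agent.H288.E8L.Brk
import Cfsg.Agent.H540.E8C.Centre

/-!
# S5925, gluing (I1): the elements of `E₈` which fix `L^y`, `y` of order 5 and type `A₄A₄` (helper60)

* `exists_reg` : an element of the torus in the interior of the alcove;
* `mem_TT_of_diag` : a diagonal element of `E₈(K)` is in the torus;
* `diag_of_fix` : an element fixing the Cartan subalgebra is diagonal (characteristic three);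
* `pow_of_fix` : an element fixing all the fixed vectors of `t₀` (order 5, type `A₄A₄`) is a power of `t₀`.
-/

set_option autoImplicit false
set_option linter.unusedSectionVars false
set_option maxRecDepth 100000

namespace Cfsg.Agent.H60.E83

open CoxeterSystem Cfsg Cfsg.Lie Cfsg.Lie.ChevalleyDatum
open Cfsg.Agent.ChevalleyStructure Cfsg.Agent.ChevalleyStructure.Elts Cfsg.Agent.ChevalleyStructure.CoxeterGeom
  Cfsg.Agent.ChevalleyStructure.CoxeterGeomTypes Cfsg.Agent.ChevalleyStructure.RootVec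
  Cfsg.Agent.ChevalleyStructure.RootVecTab
open Cfsg.Agent.ChevalleyStructure.Ring Cfsg.Agent.ChevalleyStructure.LieAut Cfsg.Agent.ChevalleyStructure.LieAbs
  Cfsg.Agent.ChevalleyStructure.JacMain
open Cfsg.Agent.Tits.Roots Cfsg.Agent.Tits.Core Cfsg.Agent.Nodes Cfsg.Agent.Nodes.Reps Cfsg.Agent.Nodes.BNOf
  Cfsg.Agent.Nodes.RGDChev
open Cfsg.Agent.GpExc.Field Cfsg.Agent.BpExc.TowChev Cfsg.Agent.H129.TorusChar
open Cfsg.Agent.KFacts.RgdChevCoord
open Cfsg.Agent.H942.E8Tab Cfsg.Agent.H942.E8Alc Cfsg.Agent.H942.CB Cfsg.Agent.H944.Tab Cfsg.Agent.H944.Kac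
open Cfsg.Agent.H288.E8L Cfsg.Agent.H540.E8C
open Matrix

/-! ### a regular element -/

/-- the heights -/
def Yh : List ℕ := [1, 1, 1, 1, 1, 1, 1, 1]

theorem isMC_zeta {ζ : K8} (hζ0 : ζ ≠ 0) (Y : List ℕ) : IsMC fun a : Fin 8 → ℤ => ζ ^ fz (YZ Y) a := ⟨by
    show ζ ^ fz (YZ Y) 0 = 1
    have : fz (YZ Y) 0 = 0 := by unfold fz; simp
    rw [this, zpow_zero], fun a b => by
    show ζ ^ fz (YZ Y) (a + b) = _
    rw [fz_add, zpow_add₀ hζ0]⟩

/-- an element of the interior of the alcove -/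
theorem exists_reg : ∃ (ζ : K8) (s : GK), IsPrimitiveRoot ζ 31 ∧ s ∈ TT chevE8 K8 ∧
    (∀ a, cX e8T s a = ζ ^ fz (YZ Yh) a) ∧ Reg s := by
  have hNne : NeZero ((31 : ℕ) : K8) := ⟨by
    have h3 : ((3 : ℕ) : K8) = 0 := CharP.cast_eq_zero K8 3
    have h31 : ((31 : ℕ) : K8) = ((3 : ℕ) : K8) * 10 + 1 := by push_cast; norm_num
    rw [h31, h3, zero_mul, zero_add]
    exact one_ne_zero⟩
  obtain ⟨ζ, hζ⟩ := HasEnoughRootsOfUnity.exists_primitiveRoot K8 31
  have hζ0 : ζ ≠ 0 := hζ.ne_zero (by norm_num)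
  obtain ⟨s, hs, hX⟩ := exists_cX e8T invC_E8 one_ne_zero (isMC_zeta hζ0 Yh) (fun i => ⟨_, pow_one _⟩)
  refine ⟨ζ, s, hζ, hs, hX, hs, fun a ha h => ?_⟩
  rw [hX, hζ.zpow_eq_one_iff_dvd] at h
  have hY : ∀ i < 8, 1 ≤ Yh.getD i 0 := by decide
  have hN : dotN th8 Yh < 31 := by decide
  rcases ha.pos_or_neg with h1 | h1
  · obtain ⟨r, hr, rfl⟩ := mem_pos_iff.1 (⟨ha, h1⟩ : a ∈ RGD.Pos cs8 e8T.isCartan)
    have := Cfsg.Agent.H845.E8L.bound hY hN hr
    obtain ⟨m, hm⟩ := h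
    push_cast at hm this
    omega
  · obtain ⟨r, hr, h2⟩ := mem_pos_iff.1 (⟨ha.neg, neg_nonneg.2 h1⟩ : -a ∈ RGD.Pos cs8 e8T.isCartan)
    have := Cfsg.Agent.H845.E8L.bound hY hN hr
    rw [← h2, Cfsg.Agent.H845.E8L.fz_neg] at this
    obtain ⟨m, hm⟩ := h
    push_cast at hm this
    omega

/-- a diagonal element is in the torus -/
theorem mem_TT_of_diag {c : GK} (h : ∀ i k, i ≠ k → mx c i k = 0) : c ∈ TT chevE8 K8 := by
  obtain ⟨ζ, s, hζ, hs, hX, hreg⟩ := exists_reg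
  have hc : mx c = Matrix.diagonal fun i => mx c i i := by
    ext i k
    by_cases hik : i = k
    · subst hik; rw [Matrix.diagonal_apply_eq]
    · rw [Matrix.diagonal_apply_ne _ hik, h i k hik]
  have hcs : c * s = s * c := by
    apply Subtype.ext
    apply Units.ext
    show mx c * mx s = mx s * mx c
    rw [hc, mx_torus hs, Matrix.diagonal_mul_diagonal, Matrix.diagonal_mul_diagonal]
    congr 1
    funext i
    exact mul_comm _ _
  obtain ⟨w, hw⟩ := Cfsg.Agent.H857.E8L.nt s s c hs hreg hcs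
  have hw1 : w = 1 := by
    refine Cfsg.Agent.H845.E8L.reg 31 Yh ζ s w rfl (by decide) (by decide) hζ hs (fun i => ?_) (fun x => ?_)
    · rw [hX, fz_sr, Cfsg.Agent.H845.E8L.YZ_getD, zpow_natCast]
    · have h1 := cX_rp e8T cs8 locFin8 3 hw hs x
      rwa [hcs, mul_inv_cancel_right] at h1
  rw [hw1] at hw
  exact hw.mem_of_one

/-! ### elements fixing the Cartan subalgebra -/

/-- an element fixing the Cartan subalgebra is diagonal -/
theorem diag_of_fix {c : GK} (h : ∀ j : Fin chevE8.rank, mx c *ᵥ Pi.single (Sum.inl j) 1 = Pi.single (Sum.inl j) 1)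
    (i k : chevE8.Idx) (hik : i ≠ k) : mx c i k = 0 := by
  rcases k with k | s
  · have h1 := congrFun (h k) i
    rw [Matrix.mulVec_single_one, Matrix.col_apply, Pi.single_eq_of_ne hik] at h1
    exact h1
  · have hne : wt i ≠ wt (Sum.inr s) := by
      intro e
      exact hik (wt_inj e (by rw [e, wt_inr]; exact vec_ne_zero s))
    obtain ⟨j, hj⟩ := sep_field (K := K8) hne
    have h1 := aut c (Pi.single (Sum.inl j) 1)
    rw [h j, adv_single_one, adR_inl] at h1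
    have h2 := congrFun (congrFun h1 i) (Sum.inr s)
    rw [Matrix.mul_diagonal, Matrix.diagonal_mul] at h2
    by_contra hne'
    apply hj
    rw [mul_comm] at h2
    exact (mul_right_cancel₀ hne' h2).symm

/-! ### the lattice of the killed roots -/

/-- the lattice generated by the roots on which `Y` vanishes modulo 5 -/
def LY (Y : List ℕ) : AddSubgroup (Fin 8 → ℤ) := AddSubgroup.closure {a | Rt a ∧ (5 : ℤ) ∣ fz (YZ Y) a}

/-- an integral combination of roots -/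
def cmb (l : List (ℤ × List ℕ)) (i : Fin 8) : ℤ := (l.map fun p => p.1 * (p.2.getD i 0 : ℤ)).sum

theorem cmb_mem {Y : List ℕ} : ∀ {l : List (ℤ × List ℕ)},
    (l.all fun p => R8.contains p.2 && Nat.beq (dotN p.2 Y % 5) 0) = true → (fun i => cmb l i) ∈ LY Y
  | [], _ => by
    have : (fun i => cmb [] i) = 0 := by funext i; rfl
    rw [this]
    exact zero_mem _
  | p :: l, h => by
    rw [List.all_cons, Bool.and_eq_true, Bool.and_eq_true] at h
    obtain ⟨⟨h1, h2⟩, h3⟩ := h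
    have e : (fun i => cmb (p :: l) i) = p.1 • toR p.2 + fun i => cmb l i := by
      funext i
      simp [cmb, toR]
    rw [e]
    have hr : p.2 ∈ R8 := by simpa using h1
    refine add_mem ((LY Y).zsmul_mem (AddSubgroup.subset_closure ⟨?_, ?_⟩) _) (cmb_mem h3)
    · exact (mem_pos_iff.2 ⟨p.2, hr, rfl⟩).1
    · rw [fz_dotN hr]
      exact_mod_cast Nat.dvd_of_mod_eq_zero (by rwa [Nat.beq_eq] at h2)

/-- the certificate: `Q / L_Y` is cyclic of order 5 generated by a simple root -/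
structure Gen (Y : List ℕ) (j : Fin 8) (m : Fin 8 → ℤ) : Prop where
  cop : Nat.Coprime (Y.getD j 0) 5
  five : (5 : ℤ) • (sr j : Fin 8 → ℤ) ∈ LY Y
  all : ∀ i, (sr i : Fin 8 → ℤ) - m i • sr j ∈ LY Y

theorem gen_alc : Gen [0, 0, 0, 0, 1, 0, 0, 0] 4 ![0, 0, 0, 0, 1, 0, 0, 0] := by
  refine ⟨by decide, ?_, ?_⟩
  · have h := cmb_mem (Y := [0, 0, 0, 0, 1, 0, 0, 0]) (l := [(1, [2, 3, 4, 6, 5, 4, 3, 2]), (-2, [1, 0, 0, 0, 0, 0, 0, 0]),
      (-3, [0, 1, 0, 0, 0, 0, 0, 0]), (-4, [0, 0, 1, 0, 0, 0, 0, 0]), (-6, [0, 0, 0, 1, 0, 0, 0, 0]),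
      (-4, [0, 0, 0, 0, 0, 1, 0, 0]), (-3, [0, 0, 0, 0, 0, 0, 1, 0]), (-2, [0, 0, 0, 0, 0, 0, 0, 1])])
      (by decide +kernel)
    convert h using 1
    funext i
    fin_cases i <;> decide +kernel
  · intro i
    have h := cmb_mem (Y := [0, 0, 0, 0, 1, 0, 0, 0]) (l := [[(1, [1, 0, 0, 0, 0, 0, 0, 0])], [(1, [0, 1, 0, 0, 0, 0, 0, 0])],
      [(1, [0, 0, 1, 0, 0, 0, 0, 0])], [(1, [0, 0, 0, 1, 0, 0, 0, 0])], [], [(1, [0, 0, 0, 0, 0, 1, 0, 0])],
      [(1, [0, 0, 0, 0, 0, 0, 1, 0])], [(1, [0, 0, 0, 0, 0, 0, 0, 1])]].getD (i : ℕ) [])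
      (by revert i; decide +kernel)
    convert h using 1
    clear h
    funext k
    revert i k
    decide +kernel

/-- the frame of helper114: `Y = (-1, -1, -1, -1, 1, -1, -1, -1)` -/
theorem gen_fr : Gen [4, 4, 4, 4, 1, 4, 4, 4] 4 ![-1, -1, -1, -1, 1, -1, -1, -1] := by
  refine ⟨by decide, ?_, ?_⟩
  · have h := cmb_mem (Y := [4, 4, 4, 4, 1, 4, 4, 4]) (l := [(-1, [1, 1, 2, 2, 2, 1, 0, 0]), (-1, [0, 1, 1, 2, 1, 1, 1, 0]),
      (1, [1, 1, 1, 2, 2, 1, 1, 0]), (-1, [1, 1, 2, 3, 2, 2, 2, 1]), (1, [1, 2, 2, 3, 3, 2, 2, 1]),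
      (-2, [1, 1, 1, 2, 1, 1, 0, 0]), (2, [1, 1, 2, 2, 2, 1, 0, 0]), (2, [0, 0, 0, 1, 1, 0, 0, 0]),
      (1, [0, 0, 0, 0, 1, 1, 0, 0])])
      (by decide +kernel)
    convert h using 1
    funext i
    fin_cases i <;> decide +kernel
  · intro i
    have h := cmb_mem (Y := [4, 4, 4, 4, 1, 4, 4, 4]) (l := [[(-1, [0, 1, 1, 2, 1, 1, 1, 0]), (1, [1, 1, 1, 2, 2, 1, 1, 0])],
      [(-1, [1, 1, 2, 3, 2, 2, 2, 1]), (1, [1, 2, 2, 3, 3, 2, 2, 1])],
      [(-1, [1, 1, 1, 2, 1, 1, 0, 0]), (1, [1, 1, 2, 2, 2, 1, 0, 0])],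
      [(1, [0, 0, 0, 1, 1, 0, 0, 0])], [], [(1, [0, 0, 0, 0, 1, 1, 0, 0])],
      [(-1, [1, 1, 1, 2, 1, 1, 0, 0]), (1, [1, 1, 1, 2, 2, 1, 1, 0])],
      [(-1, [0, 1, 1, 2, 1, 1, 1, 0]), (1, [0, 1, 1, 2, 2, 1, 1, 1])]].getD (i : ℕ) [])
      (by revert i; decide +kernel)
    convert h using 1
    clear h
    funext k
    revert i k
    decide +kernel

/-! ### powers of `t₀` -/

/-- **an element fixing all the fixed vectors of `t₀` is a power of `t₀`** -/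
theorem pow_of_fix {t0 c : GK} (ht : t0 ∈ TT chevE8 K8) {ζ : K8} (hζ : IsPrimitiveRoot ζ 5) {Y : List ℕ} {j : Fin 8}
    {m : Fin 8 → ℤ} (hG : Gen Y j m) (hX : ∀ a, cX e8T t0 a = ζ ^ fz (YZ Y) a)
    (hc : ∀ v : chevE8.Idx → K8, mx t0 *ᵥ v = v → mx c *ᵥ v = v) : ∃ k : ℕ, c = t0 ^ k := by
  have hm0 := isMC_cX e8T ht
  have hfix : ∀ i : chevE8.Idx, cX e8T t0 (wt i) = 1 → mx c *ᵥ Pi.single i 1 = Pi.single i 1 := by
    intro i hi
    apply hc
    rw [mx_torus ht, Matrix.mulVec_single_one]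
    funext k
    rw [Matrix.col_apply]
    by_cases hik : k = i
    · subst hik
      rw [Matrix.diagonal_apply_eq, Pi.single_eq_same, hi]
    · rw [Matrix.diagonal_apply_ne _ hik, Pi.single_eq_of_ne hik]
  have hcT : c ∈ TT chevE8 K8 := mem_TT_of_diag (diag_of_fix fun j => hfix _ (by rw [wt_inl]; exact hm0.zero))
  have hmc := isMC_cX e8T hcT
  have hroot : ∀ a, Rt a → (5 : ℤ) ∣ fz (YZ Y) a → cX e8T c a = 1 := by
    intro a ha h5
    obtain ⟨s, rfl⟩ := exists_idx ha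
    have h1 := hfix (Sum.inr s) (by rw [wt_inr, hX]; exact (hζ.zpow_eq_one_iff_dvd _).2 (by exact_mod_cast h5))
    have h2 := congrFun h1 (Sum.inr s)
    rw [Matrix.mulVec_single_one, Matrix.col_apply, mx_torus hcT, Matrix.diagonal_apply_eq, Pi.single_eq_same, wt_inr] at h2
    exact h2
  have hL : ∀ {χ : (Fin 8 → ℤ) → K8}, IsMC χ → (∀ a, Rt a → (5 : ℤ) ∣ fz (YZ Y) a → χ a = 1) → ∀ a ∈ LY Y, χ a = 1 := by
    intro χ hχ h a ha
    refine AddSubgroup.closure_induction (fun x hx => h x hx.1 hx.2) hχ.zero (fun x y _ _ hx hy => ?_)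
      (fun x _ hx => ?_) ha
    · rw [hχ.add, hx, hy, one_mul]
    · rw [hχ.neg, hx, inv_one]
  have hLc := hL hmc hroot
  have hL0 := hL hm0 (fun a _ h5 => by rw [hX]; exact (hζ.zpow_eq_one_iff_dvd _).2 (by exact_mod_cast h5))
  have h5 : cX e8T c (sr j) ^ 5 = 1 := by
    have h1 := hLc _ hG.five
    rw [hmc.zsmul] at h1
    exact_mod_cast h1
  have hprim : IsPrimitiveRoot (cX e8T t0 (sr j)) 5 := by
    rw [hX, fz_sr, Cfsg.Agent.H845.E8L.YZ_getD, zpow_natCast]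
    exact hζ.pow_of_coprime _ hG.cop
  obtain ⟨k, -, hk⟩ := hprim.eq_pow_of_pow_eq_one h5
  refine ⟨k, cX_inj e8T hcT (pow_mem ht k) fun i => ?_⟩
  rw [cX_pow e8T ht]
  have e : (sr i : Fin 8 → ℤ) = (sr i - m i • sr j) + m i • sr j := by abel
  rw [e, hmc.add, hm0.add, hLc _ (hG.all i), hL0 _ (hG.all i), one_mul, one_mul, hmc.zsmul, hm0.zsmul, ← hk,
    ← zpow_natCast, ← zpow_natCast, ← _root_.zpow_mul, ← _root_.zpow_mul, mul_comm]

/-! ### over the field with three elements -/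

/-- fixed vectors and extension of scalars -/
theorem base {F₀ K : Type*} [Field F₀] [Field K] [Algebra F₀ K] {n : Type*} [Fintype n] {A C : Matrix n n F₀}
    (h : ∀ v, A *ᵥ v = v → C *ᵥ v = v) (v : n → K) (hv : A.map (algebraMap F₀ K) *ᵥ v = v) :
    C.map (algebraMap F₀ K) *ᵥ v = v := by
  have key : ∀ (D : Matrix n n F₀) (l : K →ₗ[F₀] F₀), (fun i => l ((D.map (algebraMap F₀ K) *ᵥ v) i)) = D *ᵥ fun i => l (v i) := by
    intro D l
    funext i
    simp only [Matrix.mulVec, dotProduct, Matrix.map_apply, map_sum]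
    refine Finset.sum_congr rfl fun j _ => ?_
    rw [← Algebra.smul_def, map_smul, smul_eq_mul]
  funext i
  rw [← sub_eq_zero, ← Module.forall_dual_apply_eq_zero_iff F₀]
  intro l
  have h1 := h (fun i => l (v i)) (by rw [← key A l, hv])
  rw [← key C l] at h1
  have h2 : l ((C.map (algebraMap F₀ K) *ᵥ v) i) = l (v i) := congrFun h1 i
  rw [map_sub, h2, sub_self]

/-- the matrix of an element of `E₈(3)` -/
abbrev my (g : G8) : Matrix chevE8.Idx chevE8.Idx (ZMod 3) := ((g : GL chevE8.Idx (ZMod 3)) : Matrix chevE8.Idx chevE8.Idx (ZMod 3))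

theorem mx_emb8 (g : G8) : mx (emb8 g) = (my g).map (algebraMap (ZMod 3) K8) := by
  show (((emb e8T.inList (algebraMap (ZMod 3) K8) g : GK) : GL chevE8.Idx K8) : Matrix chevE8.Idx chevE8.Idx K8) = _
  rw [coe_emb, coe_glMap]

/-- **(I1)** an element of `E₈(3)` fixing all the fixed vectors of `y` is a power of `y` -/
theorem pow_of_fix' {y c : G8} {Y : List ℕ} {j : Fin 8} {m : Fin 8 → ℤ} (hG : Gen Y j m) (hT : TorD e8T y 5 (vecL 5 Y))
    (hc : ∀ v : chevE8.Idx → ZMod 3, my y *ᵥ v = v → my c *ᵥ v = v) : ∃ k : ℕ, c = y ^ k := by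
  obtain ⟨z, t, ζ, hζ, hz, htT, hv⟩ := hT
  have hX : ∀ a, cX e8T t a = ζ ^ fz (YZ Y) a := cX_of_vals htT hζ (by norm_num) hv
  have hy : emb8 y = z * t * z⁻¹ := by
    rw [← hz]
    show emb e8T.inList (algebraMap (ZMod 3) K8) y = _
    group
  have hK : ∀ v : chevE8.Idx → K8, mx (emb8 y) *ᵥ v = v → mx (emb8 c) *ᵥ v = v := by
    intro v h
    rw [mx_emb8] at h ⊢
    exact base hc v h
  have h1 : ∃ k : ℕ, z⁻¹ * emb8 c * z = t ^ k := by
    refine pow_of_fix htT hζ hG hX fun v h => ?_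
    have h2 : mx (emb8 y) *ᵥ (mx z *ᵥ v) = mx z *ᵥ v := by
      rw [hy, Matrix.mulVec_mulVec, ← mx_mul, inv_mul_cancel_right, mx_mul, ← Matrix.mulVec_mulVec, h]
    have h3 := hK _ h2
    rw [mx_mul, mx_mul, ← Matrix.mulVec_mulVec, ← Matrix.mulVec_mulVec, h3, Matrix.mulVec_mulVec, ← mx_mul,
      inv_mul_cancel]
    exact Matrix.one_mulVec v
  obtain ⟨k, hk⟩ := h1
  refine ⟨k, emb_injective e8T.inList (algebraMap (ZMod 3) K8) ?_⟩
  show emb8 c = emb8 (y ^ k)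
  rw [map_pow, hy, conj_pow, ← hk]
  group

end Cfsg.Agent.H60.E83
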