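import Mathlib

/-!
# S5925, gluing: diagonal matrices of `SL₅` as products of root elements (helper60)
-/

set_option autoImplicit false

namespace Cfsg.Agent.H60.E83

open Matrix

universe u

variable {K : Type u} [Field K]

/-- a transvection -/
abbrev tv {a b : Fin 5} (h : a ≠ b) (c : K) : SpecialLinearGroup (Fin 5) K := SpecialLinearGroup.transvection h c

/-- the element `w(t)` -/
def wE {a b : Fin 5} (h : a ≠ b) (t : K) : SpecialLinearGroup (Fin 5) K := tv h t * (tv h.symm (-t⁻¹) * tv h t)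

/-- the element `h(t)` -/
def hE {a b : Fin 5} (h : a ≠ b) (t : K) : SpecialLinearGroup (Fin 5) K := wE h t * wE h (-1)

theorem coe_upA (c : K) : (tv (show (1 : Fin 5) ≠ 2 by decide) c).1 = !![1, 0, 0, 0, 0; 0, 1, c, 0, 0; 0, 0, 1, 0, 0; 0, 0, 0, 1, 0; 0, 0, 0, 0, 1] := by
  ext i j
  fin_cases i <;> fin_cases j <;> simp [SpecialLinearGroup.transvection, Matrix.transvection, Matrix.single_apply, Matrix.one_apply]

theorem coe_loA (c : K) : (tv (show (2 : Fin 5) ≠ 1 by decide) c).1 = !![1, 0, 0, 0, 0; 0, 1, 0, 0, 0; 0, c, 1, 0, 0; 0, 0, 0, 1, 0; 0, 0, 0, 0, 1] := by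
  ext i j
  fin_cases i <;> fin_cases j <;> simp [SpecialLinearGroup.transvection, Matrix.transvection, Matrix.single_apply, Matrix.one_apply]

theorem coe_wA {t : K} (ht : t ≠ 0) : (wE (show (1 : Fin 5) ≠ 2 by decide) t).1 = !![1, 0, 0, 0, 0; 0, 0, t, 0, 0; 0, -t⁻¹, 0, 0, 0; 0, 0, 0, 1, 0; 0, 0, 0, 0, 1] := by
  have h1 : (tv (show (2 : Fin 5) ≠ 1 by decide) (-t⁻¹)).1 * (tv (show (1 : Fin 5) ≠ 2 by decide) t).1 = !![1, 0, 0, 0, 0; 0, 1, t, 0, 0; 0, -t⁻¹, 0, 0, 0; 0, 0, 0, 1, 0; 0, 0, 0, 0, 1] := by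
    rw [coe_upA, coe_loA]
    ext i j
    fin_cases i <;> fin_cases j <;> simp [Matrix.mul_apply, Fin.sum_univ_five, ht]
  show (tv (show (1 : Fin 5) ≠ 2 by decide) t).1 * ((tv (show (2 : Fin 5) ≠ 1 by decide) (-t⁻¹)).1 *
    (tv (show (1 : Fin 5) ≠ 2 by decide) t).1) = _
  rw [h1, coe_upA]
  ext i j
  fin_cases i <;> fin_cases j <;> simp [Matrix.mul_apply, Fin.sum_univ_five, ht]

theorem coe_hA {t : K} (ht : t ≠ 0) : (hE (show (1 : Fin 5) ≠ 2 by decide) t).1 = !![1, 0, 0, 0, 0; 0, t, 0, 0, 0; 0, 0, t⁻¹, 0, 0; 0, 0, 0, 1, 0; 0, 0, 0, 0, 1] := by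
  show (wE (show (1 : Fin 5) ≠ 2 by decide) t).1 * (wE (show (1 : Fin 5) ≠ 2 by decide) (-1)).1 = _
  rw [coe_wA ht, coe_wA (neg_ne_zero.2 one_ne_zero)]
  ext i j
  fin_cases i <;> fin_cases j <;> simp [Matrix.mul_apply, Fin.sum_univ_five]

theorem coe_upB (c : K) : (tv (show (2 : Fin 5) ≠ 3 by decide) c).1 = !![1, 0, 0, 0, 0; 0, 1, 0, 0, 0; 0, 0, 1, c, 0; 0, 0, 0, 1, 0; 0, 0, 0, 0, 1] := by
  ext i j
  fin_cases i <;> fin_cases j <;> simp [SpecialLinearGroup.transvection, Matrix.transvection, Matrix.single_apply, Matrix.one_apply]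

theorem coe_loB (c : K) : (tv (show (3 : Fin 5) ≠ 2 by decide) c).1 = !![1, 0, 0, 0, 0; 0, 1, 0, 0, 0; 0, 0, 1, 0, 0; 0, 0, c, 1, 0; 0, 0, 0, 0, 1] := by
  ext i j
  fin_cases i <;> fin_cases j <;> simp [SpecialLinearGroup.transvection, Matrix.transvection, Matrix.single_apply, Matrix.one_apply]

theorem coe_wB {t : K} (ht : t ≠ 0) : (wE (show (2 : Fin 5) ≠ 3 by decide) t).1 = !![1, 0, 0, 0, 0; 0, 1, 0, 0, 0; 0, 0, 0, t, 0; 0, 0, -t⁻¹, 0, 0; 0, 0, 0, 0, 1] := by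
  have h1 : (tv (show (3 : Fin 5) ≠ 2 by decide) (-t⁻¹)).1 * (tv (show (2 : Fin 5) ≠ 3 by decide) t).1 = !![1, 0, 0, 0, 0; 0, 1, 0, 0, 0; 0, 0, 1, t, 0; 0, 0, -t⁻¹, 0, 0; 0, 0, 0, 0, 1] := by
    rw [coe_upB, coe_loB]
    ext i j
    fin_cases i <;> fin_cases j <;> simp [Matrix.mul_apply, Fin.sum_univ_five, ht]
  show (tv (show (2 : Fin 5) ≠ 3 by decide) t).1 * ((tv (show (3 : Fin 5) ≠ 2 by decide) (-t⁻¹)).1 *
    (tv (show (2 : Fin 5) ≠ 3 by decide) t).1) = _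
  rw [h1, coe_upB]
  ext i j
  fin_cases i <;> fin_cases j <;> simp [Matrix.mul_apply, Fin.sum_univ_five, ht]

theorem coe_hB {t : K} (ht : t ≠ 0) : (hE (show (2 : Fin 5) ≠ 3 by decide) t).1 = !![1, 0, 0, 0, 0; 0, 1, 0, 0, 0; 0, 0, t, 0, 0; 0, 0, 0, t⁻¹, 0; 0, 0, 0, 0, 1] := by
  show (wE (show (2 : Fin 5) ≠ 3 by decide) t).1 * (wE (show (2 : Fin 5) ≠ 3 by decide) (-1)).1 = _
  rw [coe_wB ht, coe_wB (neg_ne_zero.2 one_ne_zero)]
  ext i j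
  fin_cases i <;> fin_cases j <;> simp [Matrix.mul_apply, Fin.sum_univ_five]

theorem coe_upC (c : K) : (tv (show (3 : Fin 5) ≠ 4 by decide) c).1 = !![1, 0, 0, 0, 0; 0, 1, 0, 0, 0; 0, 0, 1, 0, 0; 0, 0, 0, 1, c; 0, 0, 0, 0, 1] := by
  ext i j
  fin_cases i <;> fin_cases j <;> simp [SpecialLinearGroup.transvection, Matrix.transvection, Matrix.single_apply, Matrix.one_apply]

theorem coe_loC (c : K) : (tv (show (4 : Fin 5) ≠ 3 by decide) c).1 = !![1, 0, 0, 0, 0; 0, 1, 0, 0, 0; 0, 0, 1, 0, 0; 0, 0, 0, 1, 0; 0, 0, 0, c, 1] := by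
  ext i j
  fin_cases i <;> fin_cases j <;> simp [SpecialLinearGroup.transvection, Matrix.transvection, Matrix.single_apply, Matrix.one_apply]

theorem coe_wC {t : K} (ht : t ≠ 0) : (wE (show (3 : Fin 5) ≠ 4 by decide) t).1 = !![1, 0, 0, 0, 0; 0, 1, 0, 0, 0; 0, 0, 1, 0, 0; 0, 0, 0, 0, t; 0, 0, 0, -t⁻¹, 0] := by
  have h1 : (tv (show (4 : Fin 5) ≠ 3 by decide) (-t⁻¹)).1 * (tv (show (3 : Fin 5) ≠ 4 by decide) t).1 = !![1, 0, 0, 0, 0; 0, 1, 0, 0, 0; 0, 0, 1, 0, 0; 0, 0, 0, 1, t; 0, 0, 0, -t⁻¹, 0] := by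
    rw [coe_upC, coe_loC]
    ext i j
    fin_cases i <;> fin_cases j <;> simp [Matrix.mul_apply, Fin.sum_univ_five, ht]
  show (tv (show (3 : Fin 5) ≠ 4 by decide) t).1 * ((tv (show (4 : Fin 5) ≠ 3 by decide) (-t⁻¹)).1 *
    (tv (show (3 : Fin 5) ≠ 4 by decide) t).1) = _
  rw [h1, coe_upC]
  ext i j
  fin_cases i <;> fin_cases j <;> simp [Matrix.mul_apply, Fin.sum_univ_five, ht]

theorem coe_hC {t : K} (ht : t ≠ 0) : (hE (show (3 : Fin 5) ≠ 4 by decide) t).1 = !![1, 0, 0, 0, 0; 0, 1, 0, 0, 0; 0, 0, 1, 0, 0; 0, 0, 0, t, 0; 0, 0, 0, 0, t⁻¹] := by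
  show (wE (show (3 : Fin 5) ≠ 4 by decide) t).1 * (wE (show (3 : Fin 5) ≠ 4 by decide) (-1)).1 = _
  rw [coe_wC ht, coe_wC (neg_ne_zero.2 one_ne_zero)]
  ext i j
  fin_cases i <;> fin_cases j <;> simp [Matrix.mul_apply, Fin.sum_univ_five]

/-- `h₁₂(w) h₂₃(w³) h₃₄(w)` -/
def Dg (w : K) : SpecialLinearGroup (Fin 5) K :=
  hE (show (1 : Fin 5) ≠ 2 by decide) w * hE (show (2 : Fin 5) ≠ 3 by decide) (w ^ 3) *
    hE (show (3 : Fin 5) ≠ 4 by decide) w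

/-- `diag(1, w, w², w³, w⁴)` -/
theorem coe_Dg {w : K} (hw : w ^ 5 = 1) : (Dg w).1 = Matrix.diagonal ![1, w, w ^ 2, w ^ 3, w ^ 4] := by
  have hw0 : w ≠ 0 := by
    rintro rfl
    simp at hw
  have e1 : w⁻¹ = w ^ 4 := inv_eq_of_mul_eq_one_right (by rw [← pow_succ', hw])
  have e3 : (w ^ 3)⁻¹ = w ^ 2 := inv_eq_of_mul_eq_one_right (by rw [← pow_add, hw])
  show (hE (show (1 : Fin 5) ≠ 2 by decide) w).1 * (hE (show (2 : Fin 5) ≠ 3 by decide) (w ^ 3)).1 *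
    (hE (show (3 : Fin 5) ≠ 4 by decide) w).1 = _
  rw [coe_hA hw0, coe_hB (pow_ne_zero 3 hw0), coe_hC hw0, e1, e3]
  ext i j
  fin_cases i <;> fin_cases j <;> simp [Matrix.mul_apply, Fin.sum_univ_five, Matrix.diagonal]
  · rw [← pow_add, show 4 + 3 = 5 + 2 from rfl, pow_add, hw, one_mul]
  · rw [← pow_succ]

end Cfsg.Agent.H60.E83
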