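import Cfsg.Agent.H60.E83.Conj
import Cfsg.Agent.H879.E83.KapT
import Cfsg.Agent.H138.E8L.Zed
import Cfsg.Agent.H114.E8L.Stmt

/-!
# S5925, box U / UNIQ0: from the normal form of `q` to the same action on `L^y` (helper60)

* `sameU_of` : descent: the same action on the fixed space of `h` over the closure gives `SameU` over `𝔽₃`;
* `fix_iota` : the fixed space of `h` is the image of `iota g`;
* `sameU_form` : the output of the search and `k(λ)` give the element `κ` with the same action on `L^y`.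
-/

set_option autoImplicit false
set_option linter.unusedVariables false
set_option maxRecDepth 100000

namespace Cfsg.Agent.H60.E83

open Matrix Cfsg Cfsg.Lie Cfsg.Agent.ChevalleyStructure Cfsg.Agent.ChevalleyStructure.Elts
open Cfsg.Agent.H992.E8X hiding e8T
open Cfsg.Agent.H238.E8
open Cfsg.Agent.H576.E8L
open Cfsg.Agent.H879.E83 hiding Rel
open Cfsg.Agent.GpExc.Field (emb coe_emb coe_glMap emb_injective)
open Cfsg.Agent.H288.E8L (G8 GK K8)
open Cfsg.Agent.H908.E8L (Fr Mo)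
open Cfsg.Agent.H828.E83 (Rel)

/-! ### descent -/

/-- the matrix over `K` -/
abbrev mk {K : Type} [Field K] (g : ↥(chevE8.group K)) : Matrix chevE8.Idx chevE8.Idx K := ((g : GL chevE8.Idx K) : Matrix chevE8.Idx chevE8.Idx K)

theorem mk_mul {K : Type} [Field K] (g h : ↥(chevE8.group K)) : mk (g * h) = mk g * mk h := rfl

theorem mk_act {K : Type} [Field K] (g h : ↥(chevE8.group K)) (v : chevE8.Idx → K) :
    mk (g * h) *ᵥ v = mk g *ᵥ (mk h *ᵥ v) := by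
  rw [mk_mul, Matrix.mulVec_mulVec]

theorem mk_one {K : Type} [Field K] (v : chevE8.Idx → K) : mk (1 : ↥(chevE8.group K)) *ᵥ v = v := Matrix.one_mulVec v

theorem emb_act {K : Type} [Field K] (f : ZMod 3 →+* K) (g : G8) (v : chevE8.Idx → ZMod 3) (i : chevE8.Idx) :
    (mk (emb hE8 f g) *ᵥ fun i => f (v i)) i = f ((mk g *ᵥ v) i) := by
  show ((((emb hE8 f g : ↥(chevE8.group K)) : GL chevE8.Idx K) : Matrix chevE8.Idx chevE8.Idx K) *ᵥ fun i => f (v i)) i = _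
  rw [coe_emb, coe_glMap]
  exact (RingHom.map_mulVec f (mk g) v i).symm

/-- **descent** -/
theorem sameU_of {K : Type} [Field K] (f : ZMod 3 →+* K) {z k : ↥(chevE8.group K)} {k0 y t t' : G8}
    (hk0 : emb hE8 f k0 = z * k * z⁻¹) (hky : k0 * y = y * k0)
    (h : ∀ v : chevE8.Idx → K, mk (z⁻¹ * emb hE8 f y * z) *ᵥ v = v →
      mk (k * (z⁻¹ * emb hE8 f t * z)) *ᵥ v = mk ((z⁻¹ * emb hE8 f t' * z) * k) *ᵥ v) :
    SameU y (k0 * t * k0⁻¹) t' := by
  intro v hv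
  obtain ⟨w, hw⟩ : ∃ w : chevE8.Idx → K, w = fun i => f (v i) := ⟨_, rfl⟩
  have hyw : mk (emb hE8 f y) *ᵥ w = w := by
    funext i
    rw [hw, emb_act f y v i]
    show f ((my y *ᵥ v) i) = f (v i)
    rw [hv]
  have hk : k = z⁻¹ * emb hE8 f k0 * z := by rw [hk0]; group
  -- the vector
  have h1 : mk (z⁻¹ * emb hE8 f y * z) *ᵥ (mk (k⁻¹ * z⁻¹) *ᵥ w) = mk (k⁻¹ * z⁻¹) *ᵥ w := by
    rw [← mk_act]
    have e : z⁻¹ * emb hE8 f y * z * (k⁻¹ * z⁻¹) = (k⁻¹ * z⁻¹) * emb hE8 f y := by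
      rw [hk]
      have e1 : emb hE8 f k0 * emb hE8 f y = emb hE8 f y * emb hE8 f k0 := by rw [← map_mul, hky, map_mul]
      have e2 : emb hE8 f y * (emb hE8 f k0)⁻¹ = (emb hE8 f k0)⁻¹ * emb hE8 f y := by
        rw [mul_inv_eq_iff_eq_mul, mul_assoc, ← e1, inv_mul_cancel_left]
      calc z⁻¹ * emb hE8 f y * z * ((z⁻¹ * emb hE8 f k0 * z)⁻¹ * z⁻¹) = z⁻¹ * (emb hE8 f y * (emb hE8 f k0)⁻¹) := by group
        _ = _ := by rw [e2]; group
    rw [e, mk_act, hyw]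
  have h2 := h _ h1
  rw [← mk_act, ← mk_act] at h2
  have h3 := congrArg (fun u => mk z *ᵥ u) h2
  simp only [← mk_act] at h3
  have e1 : z * (k * (z⁻¹ * emb hE8 f t * z) * (k⁻¹ * z⁻¹)) = emb hE8 f (k0 * t * k0⁻¹) := by
    rw [map_mul, map_mul, map_inv, hk0]; group
  have e2 : z * ((z⁻¹ * emb hE8 f t' * z) * k * (k⁻¹ * z⁻¹)) = emb hE8 f t' := by group
  rw [e1, e2] at h3
  funext i
  have h4 := congrFun h3 i
  rw [hw, emb_act, emb_act] at h4
  exact f.injective h4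

/-! ### the fixed space -/

theorem fix_iota {K : Type} [Field K] [CharP K 3] {g : K} (hg : g ^ 4 = 1 - g) (v : chevE8.Idx → K)
    (hv : mk (YY (wU g hg) (wU_pow hg)) *ᵥ v = v) :
    ∃ A0 A1 : Mt K, A0.trace = 0 ∧ A1.trace = 0 ∧ iota g (A0, A1) = v := by
  have hv' : Ym (wU g hg) (wU_pow hg) v = v := hv
  obtain ⟨B0, B1, b0, b1, rfl⟩ := (fix_iff (wU_pow hg) (wU_ne hg) v).1 hv'
  have hg0 : g ≠ 0 := g_ne hg
  have key : ∀ (r : Fin 5 → ℕ) (B : Mt K), cj r g (ddi r g * B * dd r g) = B := by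
    intro r B
    rw [cj_eq]
    calc dd r g * (ddi r g * B * dd r g) * ddi r g = (dd r g * ddi r g) * B * (dd r g * ddi r g) := by
          simp only [mul_assoc]
      _ = B := by rw [dd_ddi r hg0, one_mul, mul_one]
  refine ⟨ddi re0 g * B0 * dd re0 g, ddi re1 g * B1 * dd re1 g, ?_, ?_, ?_⟩
  · rw [← cj_trace re0 hg0, key, b0]
  · rw [← cj_trace re1 hg0, key, b1]
  · rw [iota_apply, key, key]

/-! ### the conclusion for two triples -/

/-- the form of the action of `T` on `L^h` -/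
def Form {K : Type} [Field K] (g : K) (T : ↥(chevE8.group K)) (q : Mt K) : Prop :=
  ∀ A0 A1 : Mt K, A0.trace = 0 → A1.trace = 0 →
    ((T : GL chevE8.Idx K) : Matrix chevE8.Idx chevE8.Idx K) *ᵥ iota g (A0, A1) =
      iota g (-(Mh q * A0ᵀ * q), -(Q2 (Mh q) * A1ᵀ * Q2 q))

/-- the output of the search (helper947) -/
def HOut {K : Type} [Field K] (g : K) : Prop := ∃ Q : Mt K, ∀ q : Mt K, PNine g q →
  ∃ l c : K, l ^ 80 = 1 ∧ c ^ 10 = 1 ∧ ∀ a b, q a b = c * (l ^ ke a * l ^ ke b * Q a b)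

/-- **the same action** -/
theorem sameU_form {K : Type} [Field K] [CharP K 3] (f : ZMod 3 →+* K) {g : K} (hg : g ^ 4 = 1 - g)
    {z : ↥(chevE8.group K)} {y t t' : G8} (hy : z⁻¹ * emb hE8 f y * z = YY (wU g hg) (wU_pow hg))
    (hk : ∀ (l : Kˣ) (h : l ^ 80 = 1), ∃ k0 : G8, emb hE8 f k0 = z * kel l h * z⁻¹ ∧ k0 * xh = xh * k0 ∧
      k0 * y = y * k0) (hH : HOut g) {q q' : Mt K} (hq : PNine g q) (hq' : PNine g q')
    (hT : Form g (z⁻¹ * emb hE8 f t * z) q) (hT' : Form g (z⁻¹ * emb hE8 f t' * z) q') :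
    ∃ k0 : G8, k0 * xh = xh * k0 ∧ k0 * y = y * k0 ∧ SameU y (k0 * t * k0⁻¹) t' := by
  obtain ⟨Q, hQ⟩ := hH
  obtain ⟨l, c, hl, hc, h1⟩ := hQ q hq
  obtain ⟨l', c', hl', hc', h1'⟩ := hQ q' hq'
  obtain ⟨e, m, he, hm, h2⟩ := concl_ratio hl hc hl' hc' h1 h1'
  obtain ⟨k0, hk0, hkx, hky⟩ := hk m hm
  refine ⟨k0, hkx, hky, sameU_of f hk0 hky fun v hv => ?_⟩
  rw [hy] at hv
  obtain ⟨A0, A1, a0, a1, rfl⟩ := fix_iota hg v hv
  exact kel_T m hm hq.herm hq'.herm he h2 hT hT' A0 A1 a0 a1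

end Cfsg.Agent.H60.E83
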