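import Cfsg.Agent.H60.E83.HU
import Cfsg.Agent.H908.E8L.KapB

/-!
# S5925, UNIQ0: two triples with the same `x₀`, `y₀` are conjugate under `C(x₀, y₀)` (helper60)
-/

set_option autoImplicit false
set_option linter.unusedVariables false
set_option maxRecDepth 100000

namespace Cfsg.Agent.H60.E83

open Matrix Cfsg Cfsg.Lie Cfsg.Agent.ChevalleyStructure Cfsg.Agent.ChevalleyStructure.Elts
open Cfsg.Agent.H992.E8X hiding e8T
open Cfsg.Agent.H238.E8
open Cfsg.Agent.H576.E8L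
open Cfsg.Agent.H879.E83 hiding Rel
open Cfsg.Agent.GpExc.Field (emb coe_emb coe_glMap emb_injective)
open Cfsg.Agent.H288.E8L (G8 GK K8)
open Cfsg.Agent.H908.E8L (Fr Mo exists_zed_kap)
open Cfsg.Agent.H828.E83 (Rel)
open Cfsg.Agent.H138.E8L.Zed (X5M)
open Cfsg.Agent.H183.E8F (NN)
open Cfsg.Agent.BpExc.FamUntw (phi)

/-- the upstairs half (helper238) -/
def Up {g : K8} (hg : g ^ 4 = 1 - g) : Prop :=
  ∀ (z : GK) (X : SpecialLinearGroup (Fin 5) K8), (X : Matrix (Fin 5) (Fin 5) K8) = X5M g →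
    z⁻¹ * phi chevE8 K8 3 1 z = NN K8 →
    z⁻¹ * emb hE8 (algebraMap (ZMod 3) K8) (ph2 (ZMod 3) Mo) * z = ph2 K8 X →
    z⁻¹ * emb hE8 (algebraMap (ZMod 3) K8) (ph2 (ZMod 3) Fr * ph1 (ZMod 3) Fr) * z = YY (wU g hg) (wU_pow hg) →
    ∀ t : G8, Rel xh yh t → ∃ q : Mt K8, PNine g q ∧ Form g (z⁻¹ * emb hE8 (algebraMap (ZMod 3) K8) t * z) q

/-- a root of `X⁴ + X - 1` -/
theorem exists_g : ∃ g : K8, g ^ 4 = 1 - g := by
  have h := IsAlgClosed.exists_root (Polynomial.X ^ 4 + Polynomial.X - Polynomial.C 1 : Polynomial K8) (by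
    have : (Polynomial.X ^ 4 + Polynomial.X - Polynomial.C 1 : Polynomial K8).degree = 4 := by compute_degree!
    rw [this]
    norm_num)
  obtain ⟨g, hg⟩ := h
  refine ⟨g, ?_⟩
  simp only [Polynomial.IsRoot.def, Polynomial.eval_sub, Polynomial.eval_add, Polynomial.eval_pow, Polynomial.eval_X,
    Polynomial.eval_C] at hg
  linear_combination hg

/-- the abstract form -/
theorem uniq_abs {G : Type*} [Group G] {x y : G} (S : G → G → Prop)
    (hg : ∀ t t' : G, Rel x y t → Rel x y t' → S t t' → t = t')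
    {t t' : G} (h : Rel x y t) (h' : Rel x y t') (hk : ∃ k : G, k * x = x * k ∧ k * y = y * k ∧ S (k * t * k⁻¹) t') :
    ∃ k : G, k * x = x * k ∧ k * y = y * k ∧ k * t * k⁻¹ = t' := by
  obtain ⟨k, hkx, hky, hk⟩ := hk
  have h1 := rel_conj h k
  rw [conj_fix hkx, conj_fix hky] at h1
  exact ⟨k, hkx, hky, hg _ _ h1 h' hk⟩

/-- **uniqueness** -/
theorem uniq_of {g : K8} (hg : g ^ 4 = 1 - g) (hUp : Up hg) (hH : HOut g) {t t' : G8} (h : Rel xh yh t)
    (h' : Rel xh yh t') : ∃ k : G8, k * xh = xh * k ∧ k * yh = yh * k ∧ k * t * k⁻¹ = t' := by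
  obtain ⟨z, X, hX, hN, hx, -, hy, -, hk⟩ := exists_zed_kap (algebraMap (ZMod 3) K8) hg
  obtain ⟨q, hq, hT⟩ := hUp z X hX hN hx hy t h
  obtain ⟨q', hq', hT'⟩ := hUp z X hX hN hx hy t' h'
  exact uniq_abs (SameU yh) (fun _ _ a b c => glue_ph a b c) h h'
    (sameU_form (algebraMap (ZMod 3) K8) hg hy hk hH hq hq' hT hT')

/-! ### the form of helper114 -/

theorem moS_eq : Cfsg.Agent.H114.E8L.MoS = Mo := Subtype.ext (by decide +kernel)

theorem frS_eq : Cfsg.Agent.H114.E8L.FrS = Fr := Subtype.ext (by decide +kernel)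

theorem x0_eq : Cfsg.Agent.H114.E8L.x0 = xh := by rw [Cfsg.Agent.H114.E8L.x0, moS_eq]

theorem y0_eq : Cfsg.Agent.H114.E8L.y0 = yh := by rw [Cfsg.Agent.H114.E8L.y0, frS_eq]

theorem rel_of {G : Type*} [Group G] {x y t : G} (h : Cfsg.Agent.H791.E8L.Rel x y t) (hx : x ≠ 1) : Rel x y t where
  x11 := h.x11
  x1 := hx
  y5 := h.y5
  y1 := by
    rintro rfl
    have h1 := h.yx
    rw [one_mul, inv_one, mul_one] at h1
    have h2 : x ^ 2 = 1 := by
      have h3 : x * x ^ 2 = x * 1 := by rw [mul_one, ← pow_succ', ← h1]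
      exact mul_left_cancel h3
    apply hx
    have h4 := h.x11
    rw [show 11 = 2 * 5 + 1 from rfl, pow_succ, pow_mul, h2, one_pow, one_mul] at h4
    exact h4
  yx := h.yx
  tt := h.t2
  ty := by rw [inv_eq_of_mul_eq_one_right h.t2]; exact h.ty
  xt := by rw [← h.xt, pow_succ, pow_two]

/-- **UNIQ0** -/
theorem uniq0 {g : K8} (hg : g ^ 4 = 1 - g) (hUp : Up hg) (hH : HOut g) : Cfsg.Agent.H114.E8L.Uniq0 := by
  intro t t' h h'
  rw [x0_eq, y0_eq] at h h' ⊢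
  exact uniq_of hg hUp hH (rel_of h Cfsg.Agent.H908.E8L.ph2_mo_ne) (rel_of h' Cfsg.Agent.H908.E8L.ph2_mo_ne)

end Cfsg.Agent.H60.E83
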