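import Cfsg.Agent.H60.E83.UniqS
import Cfsg.Agent.H65.E8L.QBox

/-!
# S5925, UNIQ0 from the search (helper60)
-/

set_option autoImplicit false

namespace Cfsg.Agent.H60.E83

open Cfsg.Agent.H288.E8L (K8)
open Cfsg.Agent.H947.P9 (Search)

theorem qBox : QBox := qBox_of fun _ h _ hx hy => Cfsg.Agent.H65.E8L.QBox.sig0 h hx hy

/-- **UNIQ0** from the search -/
theorem uniq0_f (hS : ∀ g : K8, Search K8 g) : Cfsg.Agent.H114.E8L.Uniq0 := uniq0_s qBox hS

end Cfsg.Agent.H60.E83
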