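import Cfsg.Agent.H60.E83.UpQ
import Cfsg.Agent.H947.P9.Stmt

/-!
# S5925, UNIQ0 from `σ = 0` and the statement of the search of helper947 (helper60)
-/

set_option autoImplicit false

namespace Cfsg.Agent.H60.E83

open Cfsg Cfsg.Lie Cfsg.Agent.ChevalleyStructure
open Cfsg.Agent.H879.E83 (Mt PNine ke)
open Cfsg.Agent.H288.E8L (G8 K8)
open Cfsg.Agent.H947.P9 (Search Q0E)

theorem hout_of {g : K8} (hg : g ^ 4 = 1 - g) (hS : Search K8 g) : HOut g :=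
  ⟨Matrix.of fun a b => g ^ Q0E a b, fun q hq => hS hg q hq⟩

/-- **UNIQ0** from the box Q and the search -/
theorem uniq0_s (hQ : QBox) (hS : ∀ g : K8, Search K8 g) : Cfsg.Agent.H114.E8L.Uniq0 :=
  uniq0_q hQ fun g hg => hout_of hg (hS g)

/-- the box Q in the form of helper65 -/
theorem qBox_of (h : ∀ t : G8, Cfsg.Agent.H791.E8L.Rel Cfsg.Agent.H114.E8L.x0 Cfsg.Agent.H114.E8L.y0 t →
    ∀ v : chevE8.Idx → ZMod 3, Cfsg.Agent.H114.E8L.ac Cfsg.Agent.H114.E8L.x0 v = v →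
      Cfsg.Agent.H114.E8L.ac Cfsg.Agent.H114.E8L.y0 v = v →
      v + ∑ i ∈ Finset.range 11, Cfsg.Agent.H114.E8L.ac (Cfsg.Agent.H114.E8L.x0 ^ i) (Cfsg.Agent.H114.E8L.ac t v) = 0) :
    QBox := by
  rw [x0_eq, y0_eq] at h
  exact fun t ht v => h t (rel_791 ht) v

end Cfsg.Agent.H60.E83
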