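import Cfsg.Agent.H60.E83.Uniq
import Cfsg.Agent.H238.E8.Up
import Cfsg.Agent.H671.E83.Tbl

/-!
# S5925, UNIQ0 from `σ = 0` and the search (helper60)
-/

set_option autoImplicit false
set_option linter.unusedVariables false
set_option maxRecDepth 100000

namespace Cfsg.Agent.H60.E83

open Matrix Cfsg Cfsg.Lie Cfsg.Agent.ChevalleyStructure Cfsg.Agent.ChevalleyStructure.Elts
open Cfsg.Agent.H992.E8X hiding e8T
open Cfsg.Agent.H238.E8
open Cfsg.Agent.H288.E8L (G8 GK K8)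
open Cfsg.Agent.H908.E8L (Fr Mo)
open Cfsg.Agent.H828.E83 (Rel)
open Cfsg.Agent.H114.E8L (ac)

/-- the box Q (helper870, helper65) -/
def QBox : Prop := ∀ t : G8, Rel xh yh t → ∀ v : chevE8.Idx → ZMod 3, ac xh v = v → ac yh v = v →
  v + ∑ i ∈ Finset.range 11, ac (xh ^ i) (ac t v) = 0

theorem rel_791 {G : Type*} [Group G] {x y t : G} (h : Rel x y t) : Cfsg.Agent.H791.E8L.Rel x y t where
  x11 := h.x11
  y5 := h.y5
  t2 := h.tt
  xt := by rw [pow_succ, pow_two]; exact h.xt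
  yx := h.yx
  ty := by
    have h1 := h.ty
    rwa [inv_eq_of_mul_eq_one_right h.tt] at h1

theorem up_of {g : K8} (hg : g ^ 4 = 1 - g) (hQ : QBox) : Up hg := by
  intro z X hX hN hx hy t h
  have h3 : CharP K8 3 := charP_of_injective_algebraMap (algebraMap (ZMod 3) K8).injective 3
  exact Cfsg.Agent.H238.E8.up hg hN hx hy (rel_791 h) (Cfsg.Agent.H671.E83.tbl hg hX) (hQ t h)

/-- **UNIQ0** from the box Q and the search -/
theorem uniq0_q (hQ : QBox) (hH : ∀ g : K8, g ^ 4 = 1 - g → HOut g) : Cfsg.Agent.H114.E8L.Uniq0 := by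
  obtain ⟨g, hg⟩ := exists_g
  exact uniq0 hg (up_of hg hQ) (hH g hg)

end Cfsg.Agent.H60.E83
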